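import Mathlib
import Cfsg.Agent.Lib.Fusion.DihedralSimple
import Cfsg.Agent.Lib.Transfer.Frobenius
import Cfsg.Agent.Lib.TwoFus.CyclicSylow

/-!
Fusion in groups with dihedral Sylow 2-subgroups: odd automizers only of four-groups, and the four-groups
up to conjugacy.
-/

set_option autoImplicit false

namespace Cfsg.Lib.TwoFus

open Subgroup Cfsg.Lib.Fusion

variable {G : Type*} [Group G] [Finite G]

/-- Two involutions in a cyclic subgroup coincide. -/
theorem involution_unique {b x y : G} (hx : x ∈ zpowers b) (hy : y ∈ zpowers b) (hx2 : orderOf x = 2)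
    (hy2 : orderOf y = 2) : x = y := by
  have heq : zpowers (⟨x, hx⟩ : ↥(zpowers b)) = zpowers ⟨y, hy⟩ :=
    eq_of_card_eq_cyclic (by rw [Nat.card_zpowers, Nat.card_zpowers, orderOf_mk, orderOf_mk, hx2, hy2])
  have hm : (⟨y, hy⟩ : ↥(zpowers b)) ∈ zpowers (⟨x, hx⟩ : ↥(zpowers b)) := heq ▸ mem_zpowers _
  obtain ⟨j, hj⟩ := mem_zpowers_iff.1 hm
  have hj' : x ^ j = y := congrArg Subtype.val hj
  have hxx : x * x = 1 := by
    have := pow_orderOf_eq_one x
    rwa [hx2, pow_two] at this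
  rcases Int.even_or_odd j with ⟨r, rfl⟩ | ⟨r, rfl⟩
  · rw [← two_mul, zpow_mul, zpow_ofNat, pow_two, hxx, one_zpow] at hj'
    rw [← hj', orderOf_one] at hy2
    omega
  · rw [zpow_add, zpow_mul, zpow_ofNat, pow_two, hxx, one_zpow, one_mul, zpow_one] at hj'
    exact hj'

/-- An element of odd order translating `u` by a fixed involution fixes `u`. -/
theorem fix_of_translate {y u d : G} (hy : Odd (orderOf y)) (hd : d * d = 1) (hdy : y * d * y⁻¹ = d)
    (hu : y * u * y⁻¹ = u * d) : y * u * y⁻¹ = u := by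
  have hj : ∀ j : ℕ, y ^ j * u * (y ^ j)⁻¹ = u * d ^ j := by
    intro j
    induction j with
    | zero => simp
    | succ j ih =>
      calc y ^ (j + 1) * u * (y ^ (j + 1))⁻¹ = y * (y ^ j * u * (y ^ j)⁻¹) * y⁻¹ := by group
        _ = (y * u * y⁻¹) * (y * d ^ j * y⁻¹) := by rw [ih]; group
        _ = u * d ^ (j + 1) := by rw [← conj_pow, hdy, hu, mul_assoc, ← pow_succ']
  have h1 := hj (orderOf y)
  rw [pow_orderOf_eq_one, one_mul, inv_one, mul_one, left_eq_mul] at h1
  obtain ⟨r, hr⟩ := hy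
  rw [hr, pow_succ, pow_mul, pow_two, hd, one_pow, one_mul] at h1
  rw [hu, h1, mul_one]

/-- An element of odd order fixing a generated cyclic 2-subgroup fixes it pointwise. -/
theorem fix_of_cyclic {y c : G} (hy : Odd (orderOf y)) : ∀ {e : ℕ}, c ^ 2 ^ e = 1 →
    y * c * y⁻¹ ∈ zpowers c → y * c * y⁻¹ = c := by
  intro e
  induction e generalizing c with
  | zero => intro he _; rw [pow_zero, pow_one] at he; simp [he]
  | succ e ih =>
    intro he hm
    obtain ⟨k, hk⟩ := mem_zpowers_iff.1 hm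
    have h2 : y * c ^ 2 * y⁻¹ = c ^ 2 := ih (by rw [← pow_mul, ← pow_succ']; exact he) (by
      refine mem_zpowers_iff.2 ⟨k, ?_⟩
      rw [← conj_pow, ← hk]; group)
    set d := c⁻¹ * (y * c * y⁻¹) with hd
    have hdm : d ∈ zpowers c := mul_mem (inv_mem (mem_zpowers c)) hm
    have hd2 : d * d = 1 := by
      have hcomm : Commute (y * c * y⁻¹) c⁻¹ := by rw [← hk]; exact ((Commute.refl c).zpow_left k).inv_right
      calc d * d = c⁻¹ * ((y * c * y⁻¹) * c⁻¹) * (y * c * y⁻¹) := by rw [hd]; group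
        _ = c⁻¹ * (c⁻¹ * (y * c * y⁻¹)) * (y * c * y⁻¹) := by rw [hcomm.eq]
        _ = (c ^ 2)⁻¹ * (y * c ^ 2 * y⁻¹) := by rw [pow_two c]; group
        _ = 1 := by rw [h2, inv_mul_cancel]
    refine fix_of_translate hy hd2 ?_ (by rw [hd, mul_inv_cancel_left])
    by_cases h1 : d = 1
    · simp [h1]
    have ho : orderOf d = 2 := orderOf_eq_prime (by rw [pow_two, hd2]) h1
    refine (involution_unique hdm ?_ ho (by rw [← MulAut.conj_apply, MulEquiv.orderOf_eq, ho])).symm
    obtain ⟨j, hj⟩ := mem_zpowers_iff.1 hdm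
    rw [← hj, ← conj_zpow]
    exact Subgroup.zpow_mem _ hm j

/-- An element of odd order normalizing a four-group and fixing an involution in it centralizes it. -/
theorem klein_fix {V : Subgroup G} (hV : IsKleinFour ↥V) {y t : G} (hy : Odd (orderOf y))
    (hyV : y ∈ normalizer (V : Set G)) (ht : t ∈ V) (ht1 : t ≠ 1) (hfix : y * t * y⁻¹ = t) :
    y ∈ centralizer (V : Set G) := by
  haveI := hV
  rw [mem_centralizer_iff]
  intro u hu
  suffices h : y * u * y⁻¹ = u by exact (mul_inv_eq_iff_eq_mul.1 h).symm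
  by_cases hu1 : u = 1
  · simp [hu1]
  by_cases hut : u = t
  · rw [hut, hfix]
  have hw : y * u * y⁻¹ ∈ V := (mem_normalizer_iff.1 hyV u).1 hu
  by_cases hwu : y * u * y⁻¹ = u
  · exact hwu
  have hw1 : (⟨_, hw⟩ : ↥V) ≠ 1 := fun h => hu1 (by
    have h' : y * u * y⁻¹ = 1 := congrArg Subtype.val h
    simpa using h')
  have hwt : (⟨_, hw⟩ : ↥V) ≠ ⟨t, ht⟩ := fun h => hut (by
    have h' : y * u * y⁻¹ = t := congrArg Subtype.val h
    rw [← hfix] at h'
    simpa using h')
  have h := IsKleinFour.eq_mul_of_ne_all (x := (⟨u, hu⟩ : ↥V)) (y := ⟨t, ht⟩) (z := ⟨_, hw⟩)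
    (fun h => hu1 (congrArg Subtype.val h)) (fun h => ht1 (congrArg Subtype.val h))
    (fun h => hut (congrArg Subtype.val h)) hw1 (fun h => hwu (congrArg Subtype.val h)) hwt
  have h' : y * u * y⁻¹ = u * t := congrArg Subtype.val h
  have htt : t * t = 1 := congrArg Subtype.val (IsKleinFour.mul_self (⟨t, ht⟩ : ↥V))
  exact fix_of_translate hy htt hfix h'

/-- A four-group from two commuting involutions. -/
theorem klein_closure {c r : G} (hc : c * c = 1) (hr : r * r = 1) (hcr : c * r = r * c) (hc1 : c ≠ 1)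
    (hr1 : r ≠ 1) (hne : c ≠ r) :
    IsKleinFour ↥(closure ({c, r} : Set G)) ∧
      ∀ x ∈ closure ({c, r} : Set G), x = 1 ∨ x = c ∨ x = r ∨ x = c * r := by
  have hrc : r * (c * r) = c := by rw [← mul_assoc, ← hcr, mul_assoc, hr, mul_one]
  have hcc : c * (c * r) = r := by rw [← mul_assoc, hc, one_mul]
  have hmem : ∀ x ∈ closure ({c, r} : Set G), x = 1 ∨ x = c ∨ x = r ∨ x = c * r := by
    intro x hx
    induction hx using closure_induction with
    | mem x hx => rcases hx with rfl | rfl <;> simp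
    | one => simp
    | mul a b _ _ ha hb =>
      rcases ha with rfl | rfl | rfl | rfl <;> rcases hb with rfl | rfl | rfl | rfl <;>
        simp [hc, hr, hcr.symm, mul_assoc, hrc, hcc]
    | inv a _ ha =>
      rcases ha with rfl | rfl | rfl | rfl
      · simp
      · simp [inv_eq_of_mul_eq_one_right hc]
      · simp [inv_eq_of_mul_eq_one_right hr]
      · rw [mul_inv_rev, inv_eq_of_mul_eq_one_right hc, inv_eq_of_mul_eq_one_right hr, hcr]; simp
  have hcm : c ∈ closure ({c, r} : Set G) := subset_closure (Set.mem_insert c _)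
  have hrm : r ∈ closure ({c, r} : Set G) := subset_closure (Set.mem_insert_of_mem _ rfl)
  have hcr1 : c * r ≠ 1 := fun h => hne (by rw [← mul_left_inj r, h, hr])
  have hset : (closure ({c, r} : Set G) : Set G) = {1, c, r, c * r} := by
    ext x
    constructor
    · intro hx; simpa using hmem x hx
    · intro hx
      simp only [Set.mem_insert_iff, Set.mem_singleton_iff] at hx
      rcases hx with rfl | rfl | rfl | rfl
      · exact one_mem _
      · exact hcm
      · exact hrm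
      · exact mul_mem hcm hrm
  have hcard : Nat.card ↥(closure ({c, r} : Set G)) = 4 := by
    rw [← SetLike.coe_sort_coe, Nat.card_coe_set_eq, hset]
    rw [Set.ncard_insert_of_notMem, Set.ncard_insert_of_notMem, Set.ncard_insert_of_notMem, Set.ncard_singleton]
    · simp only [Set.mem_singleton_iff]
      intro h; exact hc1 (by simpa using h)
    · simp only [Set.mem_insert_iff, Set.mem_singleton_iff, not_or]
      exact ⟨hne, fun h => hr1 (by simpa using h)⟩
    · simp only [Set.mem_insert_iff, Set.mem_singleton_iff, not_or]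
      exact ⟨hc1.symm, hr1.symm, hcr1.symm⟩
  refine ⟨⟨hcard, ?_⟩, hmem⟩
  haveI : Nontrivial ↥(closure ({c, r} : Set G)) := Finite.one_lt_card_iff_nontrivial.1 (by omega)
  refine (Monoid.exponent_eq_prime_iff Nat.prime_two).2 fun x hx => orderOf_eq_prime ?_ hx
  apply Subtype.ext
  show (x : G) ^ 2 = 1
  rcases hmem x x.2 with h | h | h | h <;> rw [h, pow_two]
  · exact one_mul 1
  · exact hc
  · exact hr
  · rw [mul_assoc, hrc, hc]

/-- A dihedral Sylow 2-subgroup inside the group. -/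
structure DihSylow (S : Sylow 2 G) (a g : G) (t : ℕ) : Prop where
  t_pos : 1 ≤ t
  a_mem : a ∈ (S : Subgroup G)
  g_mem : g ∈ (S : Subgroup G)
  ord : orderOf a = 2 ^ t
  sq : g * g = 1
  g_not : g ∉ zpowers a
  inv : ∀ w ∈ zpowers a, g * w * g⁻¹ = w⁻¹
  cover : ∀ x ∈ (S : Subgroup G), x ∈ zpowers a ∨ x * g ∈ zpowers a
  card : Nat.card (S : Subgroup G) = 2 * 2 ^ t

theorem exists_dihSylow (S : Sylow 2 G) {m : ℕ} (hm : 2 ≤ m)
    (e : (S : Subgroup G) ≃* DihedralGroup m) : ∃ a g t, DihSylow S a g t ∧ m = 2 ^ t := by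
  haveI : Fact (Nat.Prime 2) := ⟨Nat.prime_two⟩
  haveI : NeZero m := ⟨by omega⟩
  obtain ⟨k, hk⟩ := IsPGroup.iff_card.1 S.isPGroup'
  rw [Nat.card_congr e.toEquiv, DihedralGroup.nat_card] at hk
  obtain ⟨t, -, ht⟩ := (Nat.dvd_prime_pow Nat.prime_two).1
    (show m ∣ 2 ^ k from (dvd_mul_left m 2).trans (dvd_of_eq hk))
  subst ht
  have ht1 : 1 ≤ t := by
    by_contra h
    rw [show t = 0 by omega] at hm
    omega
  set a : (S : Subgroup G) := e.symm (DihedralGroup.r 1) with ha
  set g : (S : Subgroup G) := e.symm (DihedralGroup.sr 0) with hg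
  have hpow : ∀ j : ZMod (2 ^ t), ((e.symm (DihedralGroup.r j) : (S : Subgroup G)) : G) ∈ zpowers (a : G) := by
    intro j
    refine ⟨(j.val : ℤ), ?_⟩
    show (a : G) ^ (j.val : ℤ) = _
    rw [zpow_natCast, ← Subgroup.coe_pow, ha, ← map_pow, DihedralGroup.r_one_pow, ZMod.natCast_zmod_val]
  refine ⟨(a : G), (g : G), t, ⟨ht1, a.2, g.2, ?_, ?_, ?_, ?_, ?_, ?_⟩, rfl⟩
  · rw [Subgroup.orderOf_coe, ha, MulEquiv.orderOf_eq, DihedralGroup.orderOf_r_one]
  · rw [← Subgroup.coe_mul, hg, ← map_mul, DihedralGroup.sr_mul_sr, sub_self, ← DihedralGroup.one_def, map_one,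
      Subgroup.coe_one]
  · rintro ⟨j, hj⟩
    have hj' : a ^ j = g := Subtype.ext (by rw [Subgroup.coe_zpow]; exact hj)
    rw [ha, hg, ← map_zpow, e.symm.injective.eq_iff] at hj'
    rw [DihedralGroup.r_zpow] at hj'
    cases hj'
  · rintro _ ⟨j, rfl⟩
    show (g : G) * (a : G) ^ j * (g : G)⁻¹ = ((a : G) ^ j)⁻¹
    rw [← conj_zpow, ← inv_zpow]
    congr 1
    rw [← Subgroup.coe_inv, ← Subgroup.coe_mul, ← Subgroup.coe_mul, ← Subgroup.coe_inv]
    congr 1
    apply e.injective
    rw [map_mul, map_mul, map_inv, map_inv, ha, hg, e.apply_symm_apply, e.apply_symm_apply,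
      DihedralGroup.inv_sr, DihedralGroup.inv_r, DihedralGroup.sr_mul_r, DihedralGroup.sr_mul_sr]
    congr 1
    ring
  · intro x hx
    rcases h : e ⟨x, hx⟩ with j | j
    · left
      have := hpow j
      rwa [← h, e.symm_apply_apply] at this
    · right
      have h2 : (⟨x, hx⟩ : (S : Subgroup G)) * g = e.symm (DihedralGroup.r (0 - j)) := by
        rw [← DihedralGroup.sr_mul_sr, map_mul, ← h, e.symm_apply_apply]
      have := hpow (0 - j)
      rwa [← h2] at this
  · rw [Nat.card_congr e.toEquiv, DihedralGroup.nat_card]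

variable {S : Sylow 2 G} {a g : G} {t : ℕ}

namespace DihSylow

theorem involution_of_not_mem (D : DihSylow S a g t) {r : G} (hr : r ∈ (S : Subgroup G))
    (hra : r ∉ zpowers a) : r * r = 1 ∧ ∀ w ∈ zpowers a, r * w * r⁻¹ = w⁻¹ := by
  set w₀ := r * g with hw₀
  have hw : w₀ ∈ zpowers a := (D.cover r hr).resolve_left hra
  have hg1 : g⁻¹ = g := inv_eq_of_mul_eq_one_right D.sq
  have hr' : r = w₀ * g := by rw [hw₀, mul_assoc, D.sq, mul_one]
  have hconj : ∀ w ∈ zpowers a, r * w * r⁻¹ = w⁻¹ := by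
    intro w hw'
    have hcomm : Commute w₀ w⁻¹ := by
      obtain ⟨i, hi⟩ := mem_zpowers_iff.1 hw
      obtain ⟨j, hj⟩ := mem_zpowers_iff.1 (inv_mem hw')
      rw [← hi, ← hj]; exact (Commute.refl a).zpow_zpow i j
    calc r * w * r⁻¹ = w₀ * (g * w * g⁻¹) * w₀⁻¹ := by rw [hr']; group
      _ = w⁻¹ := by rw [D.inv w hw', hcomm.eq, mul_inv_cancel_right]
  refine ⟨?_, hconj⟩
  calc r * r = w₀ * (g * w₀ * g⁻¹) * (g * g) := by rw [hr']; group
    _ = 1 := by rw [D.inv w₀ hw, mul_inv_cancel, D.sq, one_mul]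

theorem mul_mem_of_not_mem (D : DihSylow S a g t) {r r' : G} (hr : r ∈ (S : Subgroup G))
    (hr' : r' ∈ (S : Subgroup G)) (h : r ∉ zpowers a) (h' : r' ∉ zpowers a) : r * r' ∈ zpowers a := by
  have h1 := mul_mem ((D.cover r hr).resolve_left h) (inv_mem ((D.cover r' hr').resolve_left h'))
  rw [show r * g * (r' * g)⁻¹ = r * (r')⁻¹ by group, inv_eq_of_mul_eq_one_right (D.involution_of_not_mem hr' h').1] at h1
  exact h1

theorem pow_eq_one_of_mem (D : DihSylow S a g t) {w : G} (hw : w ∈ zpowers a) : w ^ 2 ^ t = 1 := by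
  obtain ⟨i, rfl⟩ := mem_zpowers_iff.1 hw
  rw [← zpow_natCast, ← zpow_mul, mul_comm, zpow_mul, zpow_natCast, ← D.ord, pow_orderOf_eq_one, one_zpow]

/-- Elements of odd order normalizing a 2-subgroup centralize it, unless it is a four-group. -/
theorem klein_or_centralizes (D : DihSylow S a g t) {Q : Subgroup G} (hQ : Q ≤ (S : Subgroup G)) {y : G}
    (hy : Odd (orderOf y)) (hyQ : y ∈ normalizer (Q : Set G)) :
    IsKleinFour ↥Q ∨ y ∈ centralizer (Q : Set G) := by
  haveI : Fact (Nat.Prime 2) := ⟨Nat.prime_two⟩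
  have hconjQ : ∀ x ∈ Q, y * x * y⁻¹ ∈ Q := fun x hx => (mem_normalizer_iff.1 hyQ x).1 hx
  obtain ⟨c, hcgen⟩ : IsCyclic ↥(Q ⊓ zpowers a) :=
    isCyclic_of_injective (inclusion (inf_le_right : Q ⊓ zpowers a ≤ zpowers a)) (inclusion_injective _)
  have hcQ : (c : G) ∈ Q := (mem_inf.1 c.2).1
  have hca : (c : G) ∈ zpowers a := (mem_inf.1 c.2).2
  have hgen : ∀ x ∈ Q, x ∈ zpowers a → x ∈ zpowers (c : G) := by
    intro x hx hxa
    obtain ⟨i, hi⟩ := hcgen ⟨x, mem_inf.2 ⟨hx, hxa⟩⟩
    exact ⟨i, congrArg Subtype.val hi⟩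
  by_cases hall : ∀ x ∈ Q, x ∈ zpowers a
  · right
    have hfix := fix_of_cyclic hy (D.pow_eq_one_of_mem hca) (hgen _ (hconjQ _ hcQ) (hall _ (hconjQ _ hcQ)))
    rw [mem_centralizer_iff]
    intro x hx
    obtain ⟨i, rfl⟩ := mem_zpowers_iff.1 (hgen x hx (hall x hx))
    exact ((show Commute y (c : G) from mul_inv_eq_iff_eq_mul.1 hfix).zpow_right i).symm.eq
  push Not at hall
  obtain ⟨r, hrQ, hra⟩ := hall
  obtain ⟨hr2, hrinv⟩ := D.involution_of_not_mem (hQ hrQ) hra
  have hcov : ∀ x ∈ Q, x ∈ zpowers (c : G) ∨ x * r ∈ zpowers (c : G) := by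
    intro x hx
    by_cases hxa : x ∈ zpowers a
    · exact Or.inl (hgen x hx hxa)
    · exact Or.inr (hgen _ (mul_mem hx hrQ) (D.mul_mem_of_not_mem (hQ hx) (hQ hrQ) hxa hra))
  obtain ⟨u, -, hu⟩ := (Nat.dvd_prime_pow Nat.prime_two).1
    (orderOf_dvd_of_pow_eq_one (D.pow_eq_one_of_mem hca))
  have hrne : r ≠ 1 := fun h => hra (h ▸ one_mem _)
  rcases Nat.lt_or_ge u 2 with hu2 | hu2
  · rcases (show u = 0 ∨ u = 1 by omega) with rfl | rfl
    · right
      have hc1 : (c : G) = 1 := orderOf_eq_one_iff.1 (by simpa using hu)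
      have hone : ∀ x ∈ Q, x = 1 ∨ x = r := by
        intro x hx
        rcases hcov x hx with h | h <;> rw [hc1, zpowers_one_eq_bot, mem_bot] at h
        · exact Or.inl h
        · exact Or.inr (mul_right_cancel (b := r) (h.trans hr2.symm))
      rw [mem_centralizer_iff]
      intro x hx
      rcases hone x hx with rfl | rfl
      · simp
      · rcases hone _ (hconjQ _ hx) with h | h
        · exact absurd (by simpa using h) hrne
        · exact (mul_inv_eq_iff_eq_mul.1 h).symm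
    · left
      have hc2 : (c : G) * c = 1 := by
        have := pow_orderOf_eq_one (c : G)
        rwa [hu, pow_one, pow_two] at this
      have hc1 : (c : G) ≠ 1 := fun h => by rw [h, orderOf_one] at hu; norm_num at hu
      have hcomm : (c : G) * r = r * c := by
        have := hrinv c hca
        rw [inv_eq_of_mul_eq_one_right hc2, mul_inv_eq_iff_eq_mul] at this
        exact this.symm
      have hne : (c : G) ≠ r := fun h => hra (h ▸ hca)
      obtain ⟨hK, -⟩ := klein_closure hc2 hr2 hcomm hc1 hrne hne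
      have heq : closure ({(c : G), r} : Set G) = Q := by
        refine le_antisymm ((closure_le _).2 (Set.insert_subset hcQ (Set.singleton_subset_iff.2 hrQ))) ?_
        intro x hx
        have hcm : zpowers (c : G) ≤ closure ({(c : G), r} : Set G) :=
          zpowers_le.2 (subset_closure (Set.mem_insert _ _))
        rcases hcov x hx with h | h
        · exact hcm h
        · rw [show x = x * r * r by rw [mul_assoc, hr2, mul_one]]
          exact mul_mem (hcm h) (subset_closure (Set.mem_insert_of_mem _ rfl))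
      exact heq ▸ hK
  · right
    have h' : DihData (⟨c, hcQ⟩ : ↥Q) ⟨r, hrQ⟩ := by
      refine ⟨Subtype.ext (by show r ^ 2 = 1; rw [pow_two, hr2]), Subtype.ext (hrinv c hca), fun s => ?_⟩
      rcases hcov s s.2 with h | h <;> obtain ⟨i, hi⟩ := mem_zpowers_iff.1 h
      · exact Or.inl ⟨i, Subtype.ext (by show ((⟨c, hcQ⟩ : ↥Q) ^ i : ↥Q).1 = _; rw [Subgroup.coe_zpow]; exact hi)⟩
      · exact Or.inr ⟨i, Subtype.ext (by show ((⟨c, hcQ⟩ : ↥Q) ^ i : ↥Q).1 = _; rw [Subgroup.coe_zpow]; exact hi)⟩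
    have hp := h'.isPGroup_mulAut (by rw [Subgroup.orderOf_mk]; exact hu) hu2
    set φ : ↥(normalizer (Q : Set G)) →* MulAut ↥Q := Q.normalizerMonoidHom
    obtain ⟨k, hk⟩ := IsPGroup.iff_orderOf.1 hp (φ ⟨y, hyQ⟩)
    have h1 : φ ⟨y, hyQ⟩ = 1 := by
      rw [← orderOf_eq_one_iff]
      refine Nat.eq_one_of_dvd_coprimes ((Nat.coprime_two_right.2 hy).pow_right k) ?_ hk.dvd
      rw [← Subgroup.orderOf_mk y hyQ]
      exact orderOf_map_dvd φ _
    rw [mem_centralizer_iff]
    intro x hx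
    have hxy : y * x * y⁻¹ = x := congrArg Subtype.val (DFunLike.congr_fun h1 (⟨x, hx⟩ : ↥Q))
    exact (mul_inv_eq_iff_eq_mul.1 hxy).symm

/-- The central involution. -/
theorem exists_central (D : DihSylow S a g t) :
    orderOf (a ^ 2 ^ (t - 1)) = 2 ∧ ∀ r ∈ (S : Subgroup G), r ∉ zpowers a →
      a ^ 2 ^ (t - 1) * r = r * a ^ 2 ^ (t - 1) := by
  have ho : orderOf (a ^ 2 ^ (t - 1)) = 2 := by
    have h2 : 2 ^ t = 2 ^ (t - 1) * 2 := by rw [← pow_succ, Nat.sub_add_cancel D.t_pos]
    rw [orderOf_pow' _ (by positivity), D.ord, Nat.gcd_eq_right (pow_dvd_pow 2 (Nat.sub_le t 1)), h2,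
      Nat.mul_div_cancel_left _ (by positivity)]
  refine ⟨ho, fun r hr hra => ?_⟩
  have h := (D.involution_of_not_mem hr hra).2 _ (pow_mem (mem_zpowers a) (2 ^ (t - 1)))
  have hinv : (a ^ 2 ^ (t - 1))⁻¹ = a ^ 2 ^ (t - 1) := inv_eq_of_mul_eq_one_right (by
    have := pow_orderOf_eq_one (a ^ 2 ^ (t - 1))
    rwa [ho, pow_two] at this)
  rw [hinv, mul_inv_eq_iff_eq_mul] at h
  exact h.symm

/-- Four-groups in the dihedral group. -/
theorem klein_structure (D : DihSylow S a g t) {V : Subgroup G} (hV : IsKleinFour ↥V)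
    (hVS : V ≤ (S : Subgroup G)) :
    a ^ 2 ^ (t - 1) ∈ V ∧ ∃ r ∈ V, r ∉ zpowers a ∧ closure ({a ^ 2 ^ (t - 1), r} : Set G) = V := by
  haveI := hV
  obtain ⟨hc, hcr⟩ := D.exists_central
  set c := a ^ 2 ^ (t - 1)
  have hsq : ∀ x ∈ V, x * x = 1 := fun x hx => congrArg Subtype.val (IsKleinFour.mul_self (⟨x, hx⟩ : ↥V))
  have hVinv : ∀ x ∈ V, x ∈ zpowers a → x = 1 ∨ x = c := by
    intro x hx hxa
    by_cases h1 : x = 1
    · exact Or.inl h1
    · exact Or.inr (involution_unique hxa (pow_mem (mem_zpowers a) _)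
        (orderOf_eq_prime (by rw [pow_two, hsq x hx]) h1) hc)
  obtain ⟨r, hrV, hra⟩ : ∃ r ∈ V, r ∉ zpowers a := by
    by_contra h
    push Not at h
    haveI : IsCyclic ↥V := isCyclic_of_injective (inclusion (fun x hx => h x hx : V ≤ zpowers a)) (inclusion_injective _)
    exact IsKleinFour.not_isCyclic ‹_›
  have hne : r ≠ 1 := fun h => hra (h ▸ one_mem _)
  obtain ⟨s, hsV, hs1, hsr⟩ : ∃ s ∈ V, s ≠ 1 ∧ s ≠ r := by
    by_contra h
    push Not at h
    have hle : V ≤ zpowers r := fun s hs => by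
      by_cases h1 : s = 1
      · exact h1 ▸ one_mem _
      · exact (h s hs h1) ▸ mem_zpowers r
    have := Subgroup.card_le_of_le hle
    rw [IsKleinFour.card_four, Nat.card_zpowers, orderOf_eq_prime (by rw [pow_two, hsq r hrV]) hne] at this
    omega
  have hcV : c ∈ V := by
    by_cases hsa : s ∈ zpowers a
    · exact ((hVinv s hsV hsa).resolve_left hs1) ▸ hsV
    · rcases hVinv _ (mul_mem hsV hrV) (D.mul_mem_of_not_mem (hVS hsV) (hVS hrV) hsa hra) with h | h
      · exact absurd (mul_right_cancel (h.trans (hsq r hrV).symm)) hsr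
      · exact h ▸ mul_mem hsV hrV
  refine ⟨hcV, r, hrV, hra, ?_⟩
  have hc1 : c ≠ 1 := fun h => by rw [h, orderOf_one] at hc; omega
  obtain ⟨hK, -⟩ := klein_closure (hsq c hcV) (hsq r hrV) (hcr r (hVS hrV) hra) hc1 hne
    (fun h => hra (h ▸ pow_mem (mem_zpowers a) _))
  haveI := hK
  exact eq_of_le_of_card_ge ((closure_le _).2 (Set.insert_subset hcV (Set.singleton_subset_iff.2 hrV)))
    (by rw [IsKleinFour.card_four, IsKleinFour.card_four])

theorem klein_of_not_mem (D : DihSylow S a g t) {r : G} (hr : r ∈ (S : Subgroup G)) (hra : r ∉ zpowers a) :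
    IsKleinFour ↥(closure ({a ^ 2 ^ (t - 1), r} : Set G)) ∧
      closure ({a ^ 2 ^ (t - 1), r} : Set G) ≤ (S : Subgroup G) := by
  obtain ⟨hc, hcr⟩ := D.exists_central
  have hc2 : a ^ 2 ^ (t - 1) * a ^ 2 ^ (t - 1) = 1 := by
    have := pow_orderOf_eq_one (a ^ 2 ^ (t - 1))
    rwa [hc, pow_two] at this
  exact ⟨(klein_closure hc2 (D.involution_of_not_mem hr hra).1 (hcr r hr hra)
    (fun h => by rw [h, orderOf_one] at hc; omega) (fun h => hra (h ▸ one_mem _))
    (fun h => hra (h ▸ pow_mem (mem_zpowers a) _))).1,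
    (closure_le _).2 (Set.insert_subset (pow_mem D.a_mem _) (Set.singleton_subset_iff.2 hr))⟩

theorem frobeniusCond_of (D : DihSylow S a g t)
    (h : ∀ U : Subgroup G, U ≤ (S : Subgroup G) → IsKleinFour ↥U → ∀ y ∈ normalizer (U : Set G),
      Odd (orderOf y) → y ∈ centralizer (U : Set G)) : Cfsg.Lib.Transfer.FrobeniusCond S := by
  intro Q hQ y hy hyc
  rcases D.klein_or_centralizes hQ (Nat.coprime_two_right.1 hyc) hy with hK | hc
  · exact h Q hQ hK y hy (Nat.coprime_two_right.1 hyc)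
  · exact hc

/-- Fusion of four-groups inside `S` is carried out inside `S`. -/
theorem klein_fusion (D : DihSylow S a g t) {U : Subgroup G} (hU : IsKleinFour ↥U)
    (hUS : U ≤ (S : Subgroup G)) {x : G} (hx : Cfsg.Lib.Transfer.conjR x (U : Set G) ⊆ (S : Set G)) :
    ∃ u ∈ (S : Subgroup G), Cfsg.Lib.Transfer.conjR x (U : Set G) = Cfsg.Lib.Transfer.conjR u (U : Set G) := by
  haveI : Fact (Nat.Prime 2) := ⟨Nat.prime_two⟩
  have key : ∀ (A : Set G) (k : G), Cfsg.Lib.Transfer.FusionChain S A k → ∀ U : Subgroup G, IsKleinFour ↥U →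
      U ≤ (S : Subgroup G) → A = (U : Set G) →
      ∃ u ∈ (S : Subgroup G), Cfsg.Lib.Transfer.conjR k A = Cfsg.Lib.Transfer.conjR u A := by
    intro A k hc
    induction hc with
    | nil A => intro _ _ _ _; exact ⟨1, one_mem _, rfl⟩
    | @cons A k Q x ht hx hp hA _ ih =>
      intro U hU hUS hAU
      subst hAU
      set D' := (S : Subgroup G) ⊓ (Q : Subgroup G) with hD'
      by_cases hK : IsKleinFour ↥D'
      · have hUD : U = D' := by
          haveI := hU
          haveI := hK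
          exact eq_of_le_of_card_ge hA (by rw [IsKleinFour.card_four, IsKleinFour.card_four])
        have he : Cfsg.Lib.Transfer.conjR x (U : Set G) = (U : Set G) :=
          Cfsg.Lib.Transfer.conjR_subgroup_of_mem_normalizer (hUD ▸ hx)
        obtain ⟨u, hu, hu'⟩ := ih U hU hUS he
        rw [he] at hu'
        exact ⟨u, hu, by rw [Cfsg.Lib.Transfer.conjR_mul, he, hu']⟩
      · have hcent : ∀ y ∈ normalizer (D' : Set G), (orderOf y).Coprime 2 → y ∈ centralizer (D' : Set G) :=
          fun y hy hyc => (D.klein_or_centralizes inf_le_left (Nat.coprime_two_right.1 hyc) hy).resolve_left hK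
        obtain ⟨v, hv, hv'⟩ := Cfsg.Lib.Transfer.exists_centralizer_mul_of_isPGroup S D' hcent ht.1 hx
        have he : Cfsg.Lib.Transfer.conjR x (U : Set G) = Cfsg.Lib.Transfer.conjR v (U : Set G) := by
          refine Set.image_congr fun b hb => ?_
          have h1 := mem_centralizer_iff.1 hv' b (hA hb)
          calc x⁻¹ * b * x = x⁻¹ * (b * (x * v⁻¹)) * v := by group
            _ = x⁻¹ * ((x * v⁻¹) * b) * v := by rw [h1]
            _ = _ := by group
        have hU' : IsKleinFour ↥(U.map (MulAut.conj v⁻¹).toMonoidHom) := by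
          haveI := hU
          exact ⟨by rw [Subgroup.card_map_of_injective (MulEquiv.injective _)]; exact IsKleinFour.card_four,
            by rw [← Monoid.exponent_eq_of_mulEquiv (U.equivMapOfInjective _ (MulAut.conj v⁻¹).injective)]
               exact IsKleinFour.exponent_two⟩
        have hU'S : U.map (MulAut.conj v⁻¹).toMonoidHom ≤ (S : Subgroup G) := by
          rintro _ ⟨w, hw, rfl⟩
          exact mul_mem (mul_mem (inv_mem hv) (hUS hw)) (inv_mem (inv_mem hv))
        have hcoe : Cfsg.Lib.Transfer.conjR v (U : Set G) = (U.map (MulAut.conj v⁻¹).toMonoidHom : Set G) := by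
          rw [Subgroup.coe_map]
          exact Set.image_congr fun b _ => by simp [MulAut.conj_apply]
        obtain ⟨u, hu, hu'⟩ := ih _ hU' hU'S (he.trans hcoe)
        exact ⟨v * u, mul_mem hv hu, by rw [Cfsg.Lib.Transfer.conjR_mul, hu', he, Cfsg.Lib.Transfer.conjR_mul]⟩
  exact key _ x (Cfsg.Lib.Transfer.alperin S hUS hx) U hU hUS rfl

end DihSylow

end Cfsg.Lib.TwoFus
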