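import Mathlib
import Cfsg.Agent.Lib.PLocal.FFCore
import Cfsg.Agent.Lib.ZStar.UniqueInvolution

/-!
Recognition of `SL(2,3)` from generators and relations.
-/

set_option autoImplicit false

namespace Cfsg.Lib.TwoFus.SLTwoThree

open Subgroup

/-- The relations of `SL(2,3)`. -/
structure Rels {L : Type*} [Group L] (i j a : L) : Prop where
  i4 : i ^ 4 = 1
  sq : j ^ 2 = i ^ 2
  inv : j * i * j⁻¹ = i⁻¹
  ai : a * i * a⁻¹ = j
  aj : a * j * a⁻¹ = i * j
  a3 : a ^ 3 = 1

section
variable {L : Type*} [Group L] [Finite L] {i j a : L}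

theorem card_sup_le {A B : Subgroup L} (h : B ≤ normalizer (A : Set L)) :
    Nat.card (A ⊔ B : Subgroup L) ≤ Nat.card A * Nat.card B := by
  rw [← Nat.card_prod]
  refine Nat.card_le_card_of_surjective (fun x : A × B =>
    (⟨x.1 * x.2, mul_mem (le_sup_left (b := B) x.1.2) (le_sup_right (a := A) x.2.2)⟩ : (A ⊔ B : Subgroup L))) fun x => ?_
  have hx : (x : L) ∈ ((A ⊔ B : Subgroup L) : Set L) := x.2
  rw [coe_mul_of_right_le_normalizer_left A B h] at hx
  obtain ⟨u, hu, v, hv, e⟩ := hx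
  exact ⟨(⟨u, hu⟩, ⟨v, hv⟩), Subtype.ext e⟩

theorem zpowers_le_normalizer (g : L) {S : Set L} (h : ∀ x ∈ S, g * x * g⁻¹ ∈ closure S) :
    zpowers g ≤ normalizer (closure S : Set L) := by
  rw [zpowers_le]
  suffices hmap : ∀ x ∈ Subgroup.closure S, g * x * g⁻¹ ∈ Subgroup.closure S by
    rw [mem_normalizer_iff]
    intro x
    refine ⟨hmap x, fun hx => ?_⟩
    have e : (Subgroup.closure S).map (MulAut.conj g).toMonoidHom = Subgroup.closure S :=
      eq_of_le_of_card_ge (by rintro _ ⟨y, hy, rfl⟩; exact hmap y hy)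
        (Nat.card_congr ((Subgroup.closure S).equivMapOfInjective _ (MulAut.conj g).injective).toEquiv).le
    obtain ⟨y, hy, he⟩ : g * x * g⁻¹ ∈ (Subgroup.closure S).map (MulAut.conj g).toMonoidHom := e.symm ▸ hx
    rwa [show x = y from ((MulAut.conj g).injective he).symm]
  intro x hx
  have : (closure S).map (MulAut.conj g).toMonoidHom ≤ closure S := by
    rw [MonoidHom.map_closure, closure_le]
    rintro _ ⟨y, hy, rfl⟩
    exact h y hy
  exact this ⟨x, hx, rfl⟩

theorem closure_le_card (h : Rels i j a) : Nat.card (Subgroup.closure ({i, j, a} : Set L)) ≤ 24 := by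
  have hzi : zpowers i = Subgroup.closure ({i} : Set L) := zpowers_eq_closure i
  have hj : zpowers j ≤ normalizer (zpowers i : Set L) := by
    rw [hzi]
    refine zpowers_le_normalizer j fun x hx => ?_
    rw [Set.mem_singleton_iff] at hx
    rw [hx, h.inv]
    exact inv_mem (subset_closure rfl)
  have hQ : Nat.card (zpowers i ⊔ zpowers j : Subgroup L) ≤ 8 := by
    have h1 : Nat.card (zpowers i) ≤ 4 := by
      rw [Nat.card_zpowers]; exact Nat.le_of_dvd (by norm_num) (orderOf_dvd_of_pow_eq_one h.i4)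
    -- the image of `j` modulo `zpowers i` has order at most two
    have hset : ((zpowers i ⊔ zpowers j : Subgroup L) : Set L) ⊆ (fun x : L × L => x.1 * x.2) '' ((zpowers i : Set L) ×ˢ ({1, j} : Set L)) := by
      rw [coe_mul_of_right_le_normalizer_left _ _ hj]
      rintro _ ⟨u, hu, v, hv, rfl⟩
      obtain ⟨k, rfl⟩ := mem_zpowers_iff.mp hv
      obtain ⟨l, rfl | rfl⟩ := Int.even_or_odd' k
      · refine ⟨(u * j ^ (2 * l), 1), ⟨mul_mem hu ?_, Or.inl rfl⟩, mul_one _⟩
        rw [zpow_mul, zpow_two, ← sq, h.sq, ← zpow_natCast]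
        exact zpow_mem (zpow_mem (mem_zpowers i) _) _
      · refine ⟨(u * j ^ (2 * l), j), ⟨mul_mem hu ?_, Or.inr rfl⟩, by simp only [zpow_add_one, mul_assoc]⟩
        rw [zpow_mul, zpow_two, ← sq, h.sq, ← zpow_natCast]
        exact zpow_mem (zpow_mem (mem_zpowers i) _) _
    show ((zpowers i ⊔ zpowers j : Subgroup L) : Set L).ncard ≤ 8
    refine (Set.ncard_le_ncard hset (Set.toFinite _)).trans ((Set.ncard_image_le (Set.toFinite _)).trans ?_)
    rw [Set.ncard_prod]
    calc (zpowers i : Set L).ncard * ({1, j} : Set L).ncard ≤ 4 * 2 := by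
          refine Nat.mul_le_mul h1 ?_
          exact (Set.ncard_insert_le _ _).trans (by rw [Set.ncard_singleton])
      _ = 8 := rfl
  have hcl : (zpowers i ⊔ zpowers j : Subgroup L) = Subgroup.closure ({i, j} : Set L) := by
    rw [zpowers_eq_closure, zpowers_eq_closure, ← Subgroup.closure_union]; rfl
  have ha : zpowers a ≤ normalizer (Subgroup.closure ({i, j} : Set L) : Set L) := by
    refine zpowers_le_normalizer a ?_
    rintro x (rfl | rfl)
    · rw [h.ai]; exact subset_closure (Or.inr rfl)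
    · rw [h.aj]; exact mul_mem (subset_closure (Or.inl rfl)) (subset_closure (Or.inr rfl))
  have h3 : Nat.card (zpowers a) ≤ 3 := by
    rw [Nat.card_zpowers]; exact Nat.le_of_dvd (by norm_num) (orderOf_dvd_of_pow_eq_one h.a3)
  have e : Subgroup.closure ({i, j, a} : Set L) = Subgroup.closure ({i, j} : Set L) ⊔ zpowers a := by
    rw [zpowers_eq_closure, ← Subgroup.closure_union]
    congr 1
    ext x
    simp only [Set.mem_union, Set.mem_insert_iff, Set.mem_singleton_iff]
    tauto
  rw [e]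
  refine (card_sup_le ha).trans ?_
  rw [← hcl]
  exact (Nat.mul_le_mul hQ h3).trans (by norm_num)

theorem closure_card (h : Rels i j a) (hi : orderOf i = 4) (ha : a ≠ 1) :
    Nat.card (Subgroup.closure ({i, j, a} : Set L)) = 24 := by
  refine le_antisymm (closure_le_card h) ?_
  set H := Subgroup.closure ({i, j, a} : Set L)
  have hiH : i ∈ H := subset_closure (Or.inl rfl)
  have hjH : j ∈ H := subset_closure (Or.inr (Or.inl rfl))
  have haH : a ∈ H := subset_closure (Or.inr (Or.inr rfl))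
  have hj : j ∉ zpowers i := by
    intro hmem
    obtain ⟨k, hk⟩ := mem_zpowers_iff.mp hmem
    have hc : j * i = i * j := by rw [← hk]; exact ((Commute.refl i).zpow_left k).eq
    have h1 : i = i⁻¹ := by
      calc i = j * i * j⁻¹ := by rw [hc, mul_inv_cancel_right]
        _ = i⁻¹ := h.inv
    have : orderOf i ∣ 2 := orderOf_dvd_of_pow_eq_one (by rw [sq]; nth_rw 2 [h1]; exact mul_inv_cancel i)
    rw [hi] at this; omega
  have hsub : zpowers i ≤ zpowers i ⊔ zpowers j := le_sup_left
  have hle : zpowers i ⊔ zpowers j ≤ H := sup_le (zpowers_le.mpr hiH) (zpowers_le.mpr hjH)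
  have h8 : 8 ∣ Nat.card H := by
    -- the subgroup generated by `i` and `j` has order a multiple of 4, more than 4, at most 8
    have hd4 : 4 ∣ Nat.card (zpowers i ⊔ zpowers j : Subgroup L) := by
      have := card_dvd_of_le hsub
      rwa [Nat.card_zpowers, hi] at this
    have hgt : 4 < Nat.card (zpowers i ⊔ zpowers j : Subgroup L) := by
      have hne : zpowers i ≠ zpowers i ⊔ zpowers j := fun e => hj (e ▸ le_sup_right (a := zpowers i) (mem_zpowers j))
      have h1 : (zpowers i : Set L).ncard < ((zpowers i ⊔ zpowers j : Subgroup L) : Set L).ncard :=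
        Set.ncard_lt_ncard (SetLike.coe_ssubset_coe.mpr (lt_of_le_of_ne hsub hne)) (Set.toFinite _)
      rw [← Nat.card_coe_set_eq, ← Nat.card_coe_set_eq] at h1
      calc 4 = Nat.card (zpowers i) := by rw [Nat.card_zpowers, hi]
        _ < _ := h1
    have hzn : zpowers j ≤ normalizer (zpowers i : Set L) := by
      rw [zpowers_eq_closure i]
      refine zpowers_le_normalizer j fun x hx => ?_
      rw [Set.mem_singleton_iff] at hx
      rw [hx, h.inv]
      exact inv_mem (subset_closure rfl)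
    have hle8 : Nat.card (zpowers i ⊔ zpowers j : Subgroup L) ∣ 16 := by
      have h1 : Nat.card (zpowers i ⊔ zpowers j : Subgroup L) ≤ Nat.card (zpowers i) * Nat.card (zpowers j) := card_sup_le hzn
      haveI := Fact.mk Nat.prime_two
      have hjo : orderOf j ∣ 4 := orderOf_dvd_of_pow_eq_one (by rw [show 4 = 2 * 2 from rfl, pow_mul, h.sq, ← pow_mul, h.i4])
      have hp2 : IsPGroup 2 (zpowers i ⊔ zpowers j : Subgroup L) := by
        haveI : ((zpowers i).subgroupOf (zpowers i ⊔ zpowers j)).Normal :=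
          normal_subgroupOf_of_le_normalizer (sup_le le_normalizer hzn)
        refine IsPGroup.to_sup_of_normal_left' ?_ ?_ hzn
        · exact IsPGroup.of_card (n := 2) (by rw [Nat.card_zpowers, hi]; norm_num)
        · obtain ⟨k, -, hk⟩ := (Nat.dvd_prime_pow Nat.prime_two).mp (show orderOf j ∣ 2 ^ 2 from hjo)
          exact IsPGroup.of_card (n := k) (by rw [Nat.card_zpowers, hk])
      obtain ⟨k, hk⟩ := IsPGroup.iff_card.mp hp2
      rw [Nat.card_zpowers, Nat.card_zpowers, hi, hk] at h1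
      have : 2 ^ k ≤ 2 ^ 4 := h1.trans ((Nat.mul_le_mul_left 4 (Nat.le_of_dvd (by norm_num) hjo)).trans (by norm_num))
      rw [hk]
      exact pow_dvd_pow 2 ((Nat.pow_le_pow_iff_right (by norm_num)).mp this)
    obtain ⟨k, -, hk⟩ := (Nat.dvd_prime_pow Nat.prime_two).mp (show Nat.card (zpowers i ⊔ zpowers j : Subgroup L) ∣ 2 ^ 4 from hle8)
    have hk3 : 3 ≤ k := by
      by_contra hlt
      have : 2 ^ k ≤ 2 ^ 2 := Nat.pow_le_pow_right two_pos (by omega)
      omega
    exact ((pow_dvd_pow 2 hk3).trans (dvd_of_eq hk.symm)).trans (card_dvd_of_le hle)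
  have h3 : 3 ∣ Nat.card H := by
    have : orderOf a = 3 := orderOf_eq_prime h.a3 ha
    rw [← this]; exact H.orderOf_dvd_natCard haH
  exact Nat.le_of_dvd Nat.card_pos (Nat.Coprime.mul_dvd_of_dvd_of_dvd (by norm_num : Nat.Coprime 8 3) h8 h3)

end

/-- A group generated by elements satisfying the relations is `SL(2,3)`. -/
theorem nonempty_mulEquiv {L : Type*} [Group L] [Finite L] {i j a : L} (h : Rels i j a) (hi : orderOf i = 4) (ha : a ≠ 1)
    (hgen : Subgroup.closure ({i, j, a} : Set L) = ⊤) : Nonempty (L ≃* Matrix.SpecialLinearGroup (Fin 2) (ZMod 3)) := by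
  let I : Matrix.SpecialLinearGroup (Fin 2) (ZMod 3) := ⟨!![0, 2; 1, 0], by decide⟩
  let J : Matrix.SpecialLinearGroup (Fin 2) (ZMod 3) := ⟨!![1, 1; 1, 2], by decide⟩
  let A : Matrix.SpecialLinearGroup (Fin 2) (ZMod 3) := ⟨!![1, 1; 0, 1], by decide⟩
  obtain ⟨A', hA', hA1⟩ : ∃ A', Rels I J A' ∧ A' ≠ 1 :=
    ⟨A, ⟨Subtype.ext (by decide), Subtype.ext (by decide), Subtype.ext (by decide), Subtype.ext (by decide),
      Subtype.ext (by decide), Subtype.ext (by decide)⟩, fun h => absurd (congrArg Subtype.val h) (by decide)⟩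
  have hI : orderOf I = 4 := by
    haveI := Fact.mk Nat.prime_two
    exact orderOf_eq_prime_pow (p := 2) (n := 1) (fun h => absurd (congrArg Subtype.val h) (by decide)) (Subtype.ext (by decide))
  have hgen' : Subgroup.closure ({I, J, A'} : Set (Matrix.SpecialLinearGroup (Fin 2) (ZMod 3))) = ⊤ :=
    eq_top_of_card_eq _ (by rw [closure_card hA' hI hA1, Cfsg.Lib.PLocal.FF.card_sl_two_three])
  let H := Subgroup.closure ({(i, I), (j, J), (a, A')} : Set (L × Matrix.SpecialLinearGroup (Fin 2) (ZMod 3)))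
  have hR : Rels (i, I) (j, J) (a, A') :=
    ⟨Prod.ext h.i4 hA'.i4, Prod.ext h.sq hA'.sq, Prod.ext h.inv hA'.inv, Prod.ext h.ai hA'.ai, Prod.ext h.aj hA'.aj,
      Prod.ext h.a3 hA'.a3⟩
  have hc : Nat.card H ≤ 24 := closure_le_card hR
  let p₁ := (MonoidHom.fst L (Matrix.SpecialLinearGroup (Fin 2) (ZMod 3))).comp H.subtype
  let p₂ := (MonoidHom.snd L (Matrix.SpecialLinearGroup (Fin 2) (ZMod 3))).comp H.subtype
  have hs₁ : Function.Surjective p₁ := by
    rw [← MonoidHom.range_eq_top, eq_top_iff, ← hgen, closure_le]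
    rintro x (rfl | rfl | rfl)
    exacts [⟨⟨(_, I), subset_closure (Or.inl rfl)⟩, rfl⟩, ⟨⟨(_, J), subset_closure (Or.inr (Or.inl rfl))⟩, rfl⟩,
      ⟨⟨(_, A'), subset_closure (Or.inr (Or.inr rfl))⟩, rfl⟩]
  have hs₂ : Function.Surjective p₂ := by
    rw [← MonoidHom.range_eq_top, eq_top_iff, ← hgen', closure_le]
    rintro x (rfl | rfl | rfl)
    exacts [⟨⟨(i, _), subset_closure (Or.inl rfl)⟩, rfl⟩, ⟨⟨(j, _), subset_closure (Or.inr (Or.inl rfl))⟩, rfl⟩,
      ⟨⟨(a, _), subset_closure (Or.inr (Or.inr rfl))⟩, rfl⟩]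
  have hL : Nat.card L = 24 := by rw [← Subgroup.card_top (G := L), ← hgen, closure_card h hi ha]
  have hb₁ : Function.Bijective p₁ := (Nat.bijective_iff_surjective_and_card p₁).mpr
    ⟨hs₁, le_antisymm (hc.trans hL.ge) (Nat.card_le_card_of_surjective p₁ hs₁)⟩
  have hb₂ : Function.Bijective p₂ := (Nat.bijective_iff_surjective_and_card p₂).mpr
    ⟨hs₂, le_antisymm (hc.trans Cfsg.Lib.PLocal.FF.card_sl_two_three.ge) (Nat.card_le_card_of_surjective p₂ hs₂)⟩
  exact ⟨(MulEquiv.ofBijective p₁ hb₁).symm.trans (MulEquiv.ofBijective p₂ hb₂)⟩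

/-- An automorphism of odd order of a 2-group with one involution gives the relations. -/
theorem exists_rels {Q : Type*} [Group Q] [Finite Q] (hQ : IsPGroup 2 Q)
    (huniq : ∀ x y : Q, orderOf x = 2 → orderOf y = 2 → y ∈ zpowers x) (φ : Q ≃* Q) {k : ℕ} (hk : Odd k)
    (hφk : ∀ x, φ^[k] x = x) (hne : ∃ x, φ x ≠ x) :
    ∃ i j : Q, orderOf i = 4 ∧ j ^ 2 = i ^ 2 ∧ j * i * j⁻¹ = i⁻¹ ∧ φ i = j ∧ φ j = i * j ∧
      Subgroup.closure ({i, j} : Set Q) = ⊤ := by
  haveI := Fact.mk Nat.prime_two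
  -- an automorphism of odd order cannot act on a cyclic 2-group
  have hcyc : ∀ c : Q, φ c ∈ zpowers c → φ c = c := by
    intro c hc
    obtain ⟨r, hr⟩ := hc
    simp only at hr
    have hit : ∀ n : ℕ, φ^[n] c = c ^ (r ^ n) := by
      intro n
      induction n with
      | zero => simp
      | succ n ih => rw [Function.iterate_succ_apply', ih, map_zpow, ← hr, ← zpow_mul, pow_succ']
    obtain ⟨m, hm⟩ := hQ.exists_orderOf_eq_pow c
    have h1 : c ^ (r ^ k - 1 : ℤ) = 1 := by rw [zpow_sub, ← hit, hφk, zpow_one, mul_inv_cancel]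
    have h2 : ((2 ^ m : ℕ) : ℤ) ∣ r ^ k - 1 := hm ▸ orderOf_dvd_iff_zpow_eq_one.mpr h1
    have h3 : ((2 ^ m : ℕ) : ℤ) ∣ r - 1 := by
      rcases Nat.eq_zero_or_pos m with rfl | hm0
      · simp
      have hro : Odd r := by
        rcases Int.even_or_odd r with he | ho
        · exfalso
          have h2' : (2 : ℤ) ∣ r ^ k := dvd_pow (even_iff_two_dvd.mp he) (by obtain ⟨l, rfl⟩ := hk; omega)
          have h4 : (2 : ℤ) ∣ ((2 ^ m : ℕ) : ℤ) := by push_cast; exact dvd_pow_self 2 hm0.ne'
          have := dvd_sub h2' (h4.trans h2)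
          norm_num at this
        · exact ho
      have hodd : Odd (∑ l ∈ Finset.range k, r ^ l) := by
        rw [Int.odd_iff, Finset.sum_int_mod]
        have : ∀ l ∈ Finset.range k, r ^ l % 2 = 1 := fun l _ => Int.odd_iff.mp hro.pow
        rw [Finset.sum_congr rfl this]
        simp
        obtain ⟨l, rfl⟩ := hk
        omega
      rw [← geom_sum_mul r k] at h2
      refine IsCoprime.dvd_of_dvd_mul_left ?_ h2
      push_cast
      refine IsCoprime.pow_left ?_
      rw [Int.isCoprime_iff_gcd_eq_one]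
      obtain ⟨l, hl⟩ := hodd
      rw [hl]
      simp
    rw [← hr, show r = 1 + (r - 1) by ring, zpow_add, zpow_one, orderOf_dvd_iff_zpow_eq_one.mp (hm ▸ h3), mul_one]
  rcases Cfsg.Lib.ZStar.isCyclic_or_inverted hQ huniq with h | ⟨-, c, g, hc4, hidx, hg, hinv, hg2⟩
  · obtain ⟨c, hc⟩ := h.exists_generator
    obtain ⟨x, hx⟩ := hne
    obtain ⟨r, rfl⟩ := hc x
    exact absurd (by rw [map_zpow, hcyc c (hc _)]) hx
  -- `φ` moves `zpowers c`
  have hw : φ c ∉ zpowers c := by
    intro hw
    have hcc := hcyc c hw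
    have hgc : g⁻¹ * φ g ∈ zpowers c := by
      refine (mul_mem_iff_of_index_two hidx).2 (iff_of_false (fun h => hg (by simpa using inv_mem h)) fun h => hg ?_)
      obtain ⟨r, hr⟩ := h
      have : g = c ^ r := φ.injective (by rw [map_zpow, hcc]; exact hr.symm)
      exact this ▸ zpow_mem (mem_zpowers c) r
    obtain ⟨r, hr⟩ := hgc
    simp only at hr
    have hφg : φ g = g * c ^ r := by rw [hr, mul_inv_cancel_left]
    have hit : ∀ n : ℕ, φ^[n] g = g * c ^ ((n : ℤ) * r) := by
      intro n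
      induction n with
      | zero => simp
      | succ n ih =>
        rw [Function.iterate_succ_apply', ih, map_mul, map_zpow, hcc, hφg, mul_assoc, ← zpow_add]
        push_cast; ring_nf
    have h1 : c ^ ((k : ℤ) * r) = 1 := mul_left_cancel (a := g) (by rw [← hit, hφk, mul_one])
    obtain ⟨m, hm⟩ := hQ.exists_orderOf_eq_pow c
    have h2 : ((2 ^ m : ℕ) : ℤ) ∣ (k : ℤ) * r := hm ▸ orderOf_dvd_iff_zpow_eq_one.mpr h1
    have h3 : ((2 ^ m : ℕ) : ℤ) ∣ r := by
      refine IsCoprime.dvd_of_dvd_mul_left ?_ h2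
      push_cast
      refine IsCoprime.pow_left ?_
      rw [Int.isCoprime_iff_gcd_eq_one]
      exact (Nat.coprime_two_left.mpr hk)
    have hfix : φ g = g := by rw [hφg, orderOf_dvd_iff_zpow_eq_one.mp (hm ▸ h3), mul_one]
    obtain ⟨x, hx⟩ := hne
    apply hx
    by_cases hxc : x ∈ zpowers c
    · obtain ⟨l, rfl⟩ := hxc
      rw [map_zpow, hcc]
    · obtain ⟨l, hl⟩ : g⁻¹ * x ∈ zpowers c :=
        (mul_mem_iff_of_index_two hidx).2 (iff_of_false (fun h => hg (by simpa using inv_mem h)) hxc)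
      simp only at hl
      rw [show x = g * c ^ l by rw [hl, mul_inv_cancel_left], map_mul, map_zpow, hcc, hfix]
  -- facts about elements outside `zpowers c`
  have houtside : ∀ w : Q, w ∉ zpowers c → w * c * w⁻¹ = c⁻¹ ∧ w ^ 2 = g ^ 2 := by
    intro w hw
    obtain ⟨l, hl⟩ : g⁻¹ * w ∈ zpowers c :=
      (mul_mem_iff_of_index_two hidx).2 (iff_of_false (fun h => hg (by simpa using inv_mem h)) hw)
    simp only at hl
    have hwe : w = g * c ^ l := by rw [hl, mul_inv_cancel_left]
    have hcg : g * c ^ l * g⁻¹ = (c ^ l)⁻¹ := by rw [← conj_zpow, hinv, inv_zpow]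
    constructor
    · rw [hwe]
      calc g * c ^ l * c * (g * c ^ l)⁻¹ = g * (c ^ l * c * (c ^ l)⁻¹) * g⁻¹ := by group
        _ = c⁻¹ := by rw [((Commute.refl c).zpow_left l).eq, mul_inv_cancel_right, hinv]
    · rw [hwe, sq, sq]
      calc g * c ^ l * (g * c ^ l) = g * c ^ l * g⁻¹ * (g * g) * c ^ l := by group
        _ = g * g := by
          rw [hcg]
          have hgg : (g * g) * c ^ l = c ^ l * (g * g) := by
            rw [← sq, hg2]; exact ((Commute.refl c).pow_left _).zpow_right l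
          rw [mul_assoc, hgg, inv_mul_cancel_left]
  obtain ⟨e1, e2⟩ := houtside (φ c) hw
  have hc2 : orderOf c = 4 := by
    have h4 : φ c ^ 4 = 1 := by
      rw [show 4 = 2 * 2 from rfl, pow_mul, e2, hg2, ← pow_mul, ← orderOf_dvd_iff_pow_eq_one]
      obtain ⟨m, hm⟩ := hQ.exists_orderOf_eq_pow c
      rcases m with _ | m
      · rw [pow_zero] at hm; omega
      · rw [hm, pow_succ]; simp
    have := Nat.le_of_dvd (by norm_num) (orderOf_dvd_of_pow_eq_one h4)
    rw [MulEquiv.orderOf_eq] at this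
    omega
  have hd2 : φ c ^ 2 = c ^ 2 := by rw [e2, hg2, hc2]
  have hgen : ∀ d : Q, d ∉ zpowers c → Subgroup.closure ({c, d} : Set Q) = ⊤ := by
    intro d hd
    rw [eq_top_iff]
    intro w _
    have hcm : zpowers c ≤ Subgroup.closure ({c, d} : Set Q) := zpowers_le.mpr (subset_closure (Or.inl rfl))
    by_cases hwc : w ∈ zpowers c
    · exact hcm hwc
    · have : d⁻¹ * w ∈ zpowers c :=
        (mul_mem_iff_of_index_two hidx).2 (iff_of_false (fun h => hd (by simpa using inv_mem h)) hwc)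
      have hd' : d ∈ Subgroup.closure ({c, d} : Set Q) := subset_closure (Or.inr rfl)
      have := mul_mem hd' (hcm this)
      rwa [mul_inv_cancel_left] at this
  set d := φ c with hd
  have hdi : d * c⁻¹ * d⁻¹ = c := by
    rw [← inv_inj, mul_inv_rev, mul_inv_rev, inv_inv, inv_inv, ← mul_assoc]; exact e1
  -- where `d` goes
  have hφd : φ d = c * d ∨ φ d = d * c := by
    have hnotd : φ d ∉ zpowers d := fun h => by
      have h' := hcyc d h
      exact hw (by rw [show d = c from φ.injective (h'.trans hd)]; exact mem_zpowers c)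
    have hnotc : φ d ∉ zpowers c := by
      intro hmem
      obtain ⟨l, hl⟩ := hmem
      simp only at hl
      have hit2 : ∀ n : ℕ, φ^[2 * n] c = c ^ (l ^ n) := by
        intro n
        induction n with
        | zero => simp
        | succ n ih =>
          rw [show 2 * (n + 1) = 2 + 2 * n by ring, Function.iterate_add_apply, ih]
          show φ (φ (c ^ (l ^ n))) = _
          rw [map_zpow, map_zpow, ← hd, ← hl, ← zpow_mul, pow_succ']
      obtain ⟨n, hn⟩ := hk
      have hkk := hφk c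
      rw [hn, add_comm, Function.iterate_add_apply, hit2] at hkk
      refine hw ?_
      have : φ (c ^ l ^ n) = c := hkk
      rw [map_zpow, ← hd] at this
      -- `c` is a power of `d`, so `zpowers c = zpowers d`
      have hcd : c ∈ zpowers d := this ▸ zpow_mem (mem_zpowers d) _
      have heq : zpowers c = zpowers d := eq_of_le_of_card_ge (zpowers_le.mpr hcd) (by
        rw [Nat.card_zpowers, Nat.card_zpowers, hd, MulEquiv.orderOf_eq])
      rw [heq]; exact mem_zpowers d
    obtain ⟨l, hl⟩ : d⁻¹ * φ d ∈ zpowers c :=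
      (mul_mem_iff_of_index_two hidx).2 (iff_of_false (fun h => hw (by simpa using inv_mem h)) hnotc)
    simp only at hl
    have he : φ d = d * c ^ l := by rw [hl, mul_inv_cancel_left]
    have h4 : c ^ l = c ^ (l % 4) := by
      conv_lhs => rw [← Int.mul_ediv_add_emod l 4, zpow_add, zpow_mul]
      rw [show (4 : ℤ) = ((orderOf c : ℕ) : ℤ) by rw [hc2]; rfl, zpow_natCast, pow_orderOf_eq_one, one_zpow, one_mul]
    rcases (show l % 4 = 0 ∨ l % 4 = 1 ∨ l % 4 = 2 ∨ l % 4 = 3 by omega) with h | h | h | h <;> rw [h] at h4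
    · exact absurd (by rw [he, h4, zpow_zero, mul_one]; exact mem_zpowers d) hnotd
    · exact Or.inr (by rw [he, h4, zpow_one])
    · exact absurd (by rw [he, h4, zpow_two, ← sq, ← hd2, ← pow_succ']; exact pow_mem (mem_zpowers d) _) hnotd
    · left
      rw [he, h4, show c ^ (3 : ℤ) = c⁻¹ by
        rw [eq_inv_iff_mul_eq_one, ← zpow_add_one]
        show c ^ ((4 : ℕ) : ℤ) = 1
        rw [zpow_natCast, ← hc2, pow_orderOf_eq_one]]
      exact mul_inv_eq_iff_eq_mul.mp hdi
  rcases hφd with h | h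
  · exact ⟨c, d, hc2, hd2, e1, rfl, h, hgen d hw⟩
  · refine ⟨c⁻¹, d⁻¹, by rw [orderOf_inv, hc2], by rw [inv_pow, inv_pow, hd2], ?_, map_inv φ c, ?_, ?_⟩
    · rw [inv_inv]
      rw [← e1]
      group
      rw [zpow_neg_one, zpow_neg_one, hdi]
    · rw [map_inv, h, mul_inv_rev]
    · rw [eq_top_iff, ← hgen d hw, closure_le]
      intro x hx
      obtain h' | h' : x = c ∨ x = d := hx <;> rw [h']
      · simpa using inv_mem (subset_closure (show c⁻¹ ∈ ({c⁻¹, d⁻¹} : Set Q) from Or.inl rfl))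
      · simpa using inv_mem (subset_closure (show d⁻¹ ∈ ({c⁻¹, d⁻¹} : Set Q) from Or.inr rfl))

end Cfsg.Lib.TwoFus.SLTwoThree
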