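import Mathlib
import Cfsg.Agent.Lib.Invol.Dihedral
import Cfsg.Agent.Lib.Invol.Counting

/-!
An involution fixing a unique coset of `H`, such that each product with a commuting conjugate does
too, has a conjugacy class of odd size.
-/

set_option autoImplicit false

namespace Cfsg.Lib.TwoFus

open Cfsg.Lib.Invol

theorem natCard_mod_two_of_involutive {α : Type*} [Finite α] (f : α → α) (hf : ∀ a, f (f a) = a) :
    Nat.card α ≡ Nat.card {a : α // f a = a} [MOD 2] := by
  classical
  have := Fintype.ofFinite α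
  have h2 : Fact (Nat.Prime 2) := ⟨Nat.prime_two⟩
  have h := Equiv.Perm.card_fixedPoints_modEq (f := (f : Function.End α)) (p := 2) (n := 1)
    (funext fun a => hf a)
  rw [← Nat.card_eq_fintype_card, ← Nat.card_eq_fintype_card] at h
  exact h

variable {G : Type*} [Group G] [Finite G] {H : Subgroup G} {z : G}

section

variable (hz : orderOf z = 2) (hfix : ∀ g : G, g * z * g⁻¹ ∈ H ↔ g ∈ H)
  (hpair : ∀ t : G, IsConj z t → t ≠ z → t * z = z * t → ∀ g : G, g * (z * t) * g⁻¹ ∈ H ↔ g ∈ H)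

include hfix in
theorem uf_mem : z ∈ H := by simpa using (hfix 1).2 H.one_mem

include hfix in
theorem uf_commute_mem {g : G} (hg : Commute g z) : g ∈ H :=
  (hfix g).1 (by rw [hg.eq, mul_inv_cancel_right]; exact uf_mem hfix)

include hz hfix hpair in
theorem uf_half {v y : G} (hv : IsConj z v) (hy : IsConj z y) (hvH : v ∉ H)
    (he : Even (orderOf (v * y))) : (v * y) ^ (orderOf (v * y) / 2) ∉ H := by
  intro hmem
  have hv2 := orderTwo_isConj hz hv
  have hy2 := orderTwo_isConj hz hy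
  set w := (v * y) ^ (orderOf (v * y) / 2) with hw
  have hw2 : orderOf w = 2 := orderTwo_half he
  have hwv : Commute w v := commute_half_left hv2 hy2 he
  have hs : IsConj z (v * w) := by
    rcases half_mul_conj hv2 hy2 he with ⟨-, d, hd⟩ | ⟨-, d, hd⟩
    · exact hv.trans (isConj_iff.2 ⟨d, hd⟩)
    · exact hy.trans (isConj_iff.2 ⟨d, hd⟩)
  obtain ⟨a, ha⟩ := isConj_iff.1 hv
  set t := a⁻¹ * (v * w) * a with ht
  have htz : IsConj z t := hs.trans (isConj_iff.2 ⟨a⁻¹, by rw [inv_inv]⟩)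
  have htne : t ≠ z := by
    intro h
    apply ne_one_of_orderTwo hw2
    have h1 : v * w = v := by
      calc v * w = a * t * a⁻¹ := by rw [ht]; group
        _ = v := by rw [h, ha]
    simpa using h1
  have hcomm : t * z = z * t := by
    have h1 : z = a⁻¹ * v * a := by rw [← ha]; group
    rw [ht, h1]
    calc a⁻¹ * (v * w) * a * (a⁻¹ * v * a) = a⁻¹ * (v * (w * v)) * a := by group
      _ = a⁻¹ * (v * (v * w)) * a := by rw [hwv.eq]
      _ = _ := by group
  have haH : a ∈ H := by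
    refine (hpair t htz htne hcomm a).1 ?_
    have : a * (z * t) * a⁻¹ = w := by
      rw [ht, show a * (z * (a⁻¹ * (v * w) * a)) * a⁻¹ = (a * z * a⁻¹) * v * w by group, ha,
        mul_self_of_orderTwo hv2, one_mul]
    rwa [this]
  exact hvH (ha ▸ (hfix a).2 haH)

include hz hfix hpair in
theorem uf_odd {v : G} (hv : IsConj z v) (hvH : v ∉ H) : Odd (orderOf (v * z)) := by
  by_contra h
  rw [Nat.not_odd_iff_even] at h
  exact uf_half hz hfix hpair hv (IsConj.refl z) hvH h
    (uf_commute_mem hfix (commute_half_right (orderTwo_isConj hz hv) hz h))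

include hz hfix hpair in
theorem uf_inj {u v w : G} (hu2 : orderOf u = 2) (huH : u ∉ H) (hv : IsConj z v) (hw : IsConj z w)
    (huv : u * v ∈ H) (huw : u * w ∈ H)
    (heq : (u * v) * z * (u * v)⁻¹ = (u * w) * z * (u * w)⁻¹) : v = w := by
  have hv2 := orderTwo_isConj hz hv
  have hw2 := orderTwo_isConj hz hw
  have hwH : w ∉ H := fun h => huH (by simpa using H.mul_mem huw (H.inv_mem h))
  have hd : w * v ∈ H := by
    have := H.mul_mem (H.inv_mem huw) huv
    rwa [mul_inv_rev, inv_of_orderTwo hw2, inv_of_orderTwo hu2,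
      show w * u * (u * v) = w * (u * u) * v by group, mul_self_of_orderTwo hu2, mul_one] at this
  have hodd : Odd (orderOf (w * v)) := by
    by_contra h
    rw [Nat.not_odd_iff_even] at h
    exact uf_half hz hfix hpair hw hv hwH h (H.pow_mem hd _)
  have h1 : v * z * v⁻¹ = w * z * w⁻¹ := by
    calc v * z * v⁻¹ = u⁻¹ * ((u * v) * z * (u * v)⁻¹) * u := by group
      _ = u⁻¹ * ((u * w) * z * (u * w)⁻¹) * u := by rw [heq]
      _ = w * z * w⁻¹ := by group
  have hc : Commute z (w * v) := by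
    have h2 : (w * v) * z * (w * v)⁻¹ = z := by
      calc (w * v) * z * (w * v)⁻¹ = w * (v * z * v⁻¹) * w⁻¹ := by group
        _ = (w * w) * z * (w * w)⁻¹ := by rw [h1]; group
        _ = z := by rw [mul_self_of_orderTwo hw2, one_mul, inv_one, mul_one]
    show z * (w * v) = (w * v) * z
    rw [mul_inv_eq_iff_eq_mul] at h2
    exact h2.symm
  set d := w * v with hddef
  set C := Subgroup.centralizer (((Subgroup.zpowers d) : Subgroup G) : Set G) with hC
  have hzn : z ∈ Subgroup.centralizer (((Subgroup.zpowers d) : Subgroup G) : Set G) :=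
    Subgroup.mem_centralizer_iff.2 fun x hx => by
      obtain ⟨i, rfl⟩ := Subgroup.mem_zpowers_iff.1 hx
      exact (hc.zpow_right i).symm
  have hwn : w ∈ Subgroup.normalizer ((Subgroup.zpowers d : Subgroup G) : Set G) := by
    refine mem_normalizer_of_map_le w ?_
    rintro _ ⟨x, hx, rfl⟩
    obtain ⟨i, rfl⟩ := Subgroup.mem_zpowers_iff.1 hx
    refine Subgroup.mem_zpowers_iff.2 ⟨-i, ?_⟩
    show _ = w * d ^ i * w⁻¹
    rw [← conj_zpow, hddef, left_conj_mul hw2 hv2, inv_zpow, zpow_neg]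
  obtain ⟨c, hc', hcw⟩ := exists_conj_of_odd hz hw2 (by
    have h := uf_odd hz hfix hpair hw hwH
    rwa [← orderOf_inv, mul_inv_rev, inv_of_orderTwo hz, inv_of_orderTwo hw2] at h)
  have hcn : c ∈ Subgroup.normalizer ((Subgroup.zpowers d : Subgroup G) : Set G) :=
    (Subgroup.zpowers_le.2 (Subgroup.mul_mem _
      (Subgroup.centralizer_le_normalizer _ hzn) hwn)) hc'
  have hwd : Commute w d := by
    rw [← hcw]
    have h3 : c⁻¹ * d * c ∈ Subgroup.zpowers d :=
      ((Subgroup.mem_normalizer_iff''.1 hcn d).1 (Subgroup.mem_zpowers d))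
    obtain ⟨i, hi⟩ := Subgroup.mem_zpowers_iff.1 h3
    show _ = _
    calc c * z * c⁻¹ * d = c * (z * (c⁻¹ * d * c)) * c⁻¹ := by group
      _ = c * ((c⁻¹ * d * c) * z) * c⁻¹ := by rw [← hi, (hc.zpow_right i).eq]
      _ = d * (c * z * c⁻¹) := by group
  have hsq : d = d⁻¹ := by
    have := left_conj_mul hw2 hv2
    rwa [← hddef, hwd.eq, mul_inv_cancel_right] at this
  have h2 : orderOf d ∣ 2 := orderOf_dvd_of_pow_eq_one (by rw [sq]; nth_rw 1 [hsq]; group)
  rcases (Nat.dvd_prime Nat.prime_two).1 h2 with h | h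
  · have h' := eq_inv_of_mul_eq_one_right (orderOf_eq_one_iff.1 h)
    rw [inv_of_orderTwo hw2] at h'
    exact h'
  · rw [h] at hodd
    exact absurd hodd (by decide)
where
  mem_normalizer_of_map_le {K : Subgroup G} (w : G)
      (h : K.map (MulAut.conj w).toMonoidHom ≤ K) : w ∈ Subgroup.normalizer (K : Set G) := by
    have e : K.map (MulAut.conj w).toMonoidHom = K := Subgroup.eq_of_le_of_card_ge h
      (Subgroup.card_map_of_injective (MulAut.conj w).injective).ge
    refine Subgroup.mem_normalizer_iff.2 fun x => ⟨fun hx => h ⟨x, hx, rfl⟩, fun hx => ?_⟩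
    have hx' : (MulAut.conj w).toMonoidHom x ∈ K.map (MulAut.conj w).toMonoidHom := by
      rw [e]; exact hx
    obtain ⟨y, hy, hye⟩ := hx'
    exact (MulAut.conj w).injective hye ▸ hy

include hz hfix hpair in
open scoped Classical in
theorem uf_card_coset (c : G ⧸ H) :
    Nat.card {i : G // IsConj z i ∧ (QuotientGroup.mk i : G ⧸ H) = c} =
      Nat.card {t : G // IsConj z t ∧ t ∈ H} := by
  have : Fintype (G ⧸ H) := Fintype.ofFinite _
  set m := Nat.card {t : G // IsConj z t ∧ t ∈ H} with hm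
  have hle : ∀ c : G ⧸ H,
      Nat.card {i : G // IsConj z i ∧ (QuotientGroup.mk i : G ⧸ H) = c} ≤ m := by
    intro c
    by_cases hne : ∃ u : G, IsConj z u ∧ (QuotientGroup.mk u : G ⧸ H) = c
    swap
    · have : IsEmpty {i : G // IsConj z i ∧ (QuotientGroup.mk i : G ⧸ H) = c} :=
        ⟨fun i => hne ⟨i.1, i.2⟩⟩
      rw [Nat.card_of_isEmpty]
      exact Nat.zero_le _
    obtain ⟨u, hu, huc⟩ := hne
    by_cases huH : u ∈ H
    · refine Nat.card_le_card_of_injective (fun i => ⟨i.1, i.2.1, ?_⟩) fun a b h =>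
        Subtype.ext (congrArg (fun z => z.1) h)
      have h1 := QuotientGroup.eq.1 (huc.trans i.2.2.symm)
      simpa using H.mul_mem huH h1
    have hu2 := orderTwo_isConj hz hu
    have hmem : ∀ i : {i : G // IsConj z i ∧ (QuotientGroup.mk i : G ⧸ H) = c}, u * i.1 ∈ H := by
      intro i
      have h1 := QuotientGroup.eq.1 (huc.trans i.2.2.symm)
      rwa [inv_of_orderTwo hu2] at h1
    refine Nat.card_le_card_of_injective (fun i => ⟨(u * i.1) * z * (u * i.1)⁻¹,
      isConj_iff.2 ⟨_, rfl⟩,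
      H.mul_mem (H.mul_mem (hmem i) (uf_mem hfix)) (H.inv_mem (hmem i))⟩) fun a b h => ?_
    exact Subtype.ext (uf_inj hz hfix hpair hu2 huH a.2.1 b.2.1 (hmem a) (hmem b)
      (congrArg (fun z => z.1) h))
  have hfx : ∀ (i g : G), i • (g : G ⧸ H) = (g : G ⧸ H) ↔ g⁻¹ * i * g ∈ H := by
    intro i g
    rw [eq_comm, MulAction.Quotient.smul_coe, QuotientGroup.eq, smul_eq_mul, mul_assoc]
  have hex : ∀ i : {i : G // IsConj z i}, ∃ d : G ⧸ H, i.1 • d = d := by
    intro i
    obtain ⟨g, hg⟩ := isConj_iff.1 i.2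
    refine ⟨(g : G ⧸ H), (hfx _ _).2 ?_⟩
    rw [← hg]
    simpa [mul_assoc] using uf_mem hfix
  have huniq : ∀ (i : G), IsConj z i → ∀ d e : G ⧸ H, i • d = d → i • e = e → d = e := by
    intro i hi d e hd he
    obtain ⟨g, rfl⟩ := isConj_iff.1 hi
    obtain ⟨a, rfl⟩ := QuotientGroup.mk_surjective d
    obtain ⟨b, rfl⟩ := QuotientGroup.mk_surjective e
    have ha := (hfx _ _).1 hd
    have hb := (hfx _ _).1 he
    rw [show a⁻¹ * (g * z * g⁻¹) * a = a⁻¹ * g * z * (a⁻¹ * g)⁻¹ by group, hfix] at ha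
    rw [show b⁻¹ * (g * z * g⁻¹) * b = b⁻¹ * g * z * (b⁻¹ * g)⁻¹ by group, hfix] at hb
    exact QuotientGroup.eq.2 (by simpa [mul_assoc] using H.mul_mem ha (H.inv_mem hb))
  have hfib : ∀ d : G ⧸ H, Nat.card {i : G // IsConj z i ∧ i • d = d} = m := by
    intro d
    obtain ⟨g, rfl⟩ := QuotientGroup.mk_surjective d
    refine Nat.card_congr ((MulAut.conj g⁻¹).toEquiv.subtypeEquiv fun i => ?_)
    simp only [MulEquiv.toEquiv_eq_coe, EquivLike.coe_coe]
    rw [MulAut.conj_apply, inv_inv, hfx]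
    refine and_congr_left fun _ => ⟨fun h => h.trans (isConj_iff.2 ⟨g⁻¹, by rw [inv_inv]⟩),
      fun h => h.trans (isConj_iff.2 ⟨g, by group⟩)⟩
  have htot : ∑ d : G ⧸ H, Nat.card {i : G // IsConj z i ∧ i • d = d} =
      ∑ d : G ⧸ H, Nat.card {i : G // IsConj z i ∧ (QuotientGroup.mk i : G ⧸ H) = d} := by
    rw [← Nat.card_sigma, ← Nat.card_sigma]
    choose f hf using hex
    refine Nat.card_congr ?_
    exact {
      toFun := fun x => ⟨QuotientGroup.mk x.2.1, x.2.1, x.2.2.1, rfl⟩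
      invFun := fun x => ⟨f ⟨x.2.1, x.2.2.1⟩, x.2.1, x.2.2.1, hf ⟨x.2.1, x.2.2.1⟩⟩
      left_inv := by
        rintro ⟨d, i, hi, hd⟩
        have e : f ⟨i, hi⟩ = d := huniq i hi _ _ (hf ⟨i, hi⟩) hd
        subst e
        rfl
      right_inv := by
        rintro ⟨d, i, hi, rfl⟩
        rfl }
  simp only [hfib] at htot
  exact ((Finset.sum_eq_sum_iff_of_le fun d _ => hle d).1 htot.symm c (Finset.mem_univ c))

include hz hfix hpair in
/-- The class of `z` has odd size. -/
theorem uf_odd_class (hH : H ≠ ⊤) : Odd (Nat.card {s : G // IsConj z s}) := by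
  -- a conjugate outside `H`
  obtain ⟨g, hg⟩ : ∃ g, g ∉ H := by
    by_contra h
    push_neg at h
    exact hH (eq_top_iff.2 fun g _ => h g)
  set u := g * z * g⁻¹ with hu
  have huz : IsConj z u := isConj_iff.2 ⟨g, rfl⟩
  have huH : u ∉ H := fun h => hg ((hfix g).1 h)
  have hu2 := orderTwo_isConj hz huz
  set α := {i : G // IsConj z i ∧ (QuotientGroup.mk i : G ⧸ H) = QuotientGroup.mk u}
  have hmem : ∀ i : α, u * i.1 ∈ H := by
    intro i
    have h1 := QuotientGroup.eq.1 i.2.2.symm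
    rwa [inv_of_orderTwo hu2] at h1
  have hflip : ∀ i : α, (QuotientGroup.mk (u * i.1 * u⁻¹) : G ⧸ H) = QuotientGroup.mk u := by
    intro i
    refine (QuotientGroup.eq.2 ?_).symm
    have h := H.inv_mem (hmem i)
    rw [mul_inv_rev, inv_of_orderTwo hu2, inv_of_orderTwo (orderTwo_isConj hz i.2.1)] at h
    rw [inv_of_orderTwo hu2, show u * (u * i.1 * u) = (u * u) * (i.1 * u) by group,
      mul_self_of_orderTwo hu2, one_mul]
    exact h
  let f : α → α := fun i => ⟨u * i.1 * u⁻¹, i.2.1.trans (isConj_iff.2 ⟨u, rfl⟩), hflip i⟩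
  have hff : ∀ i, f (f i) = i := fun i => Subtype.ext (by
    show u * (u * i.1 * u⁻¹) * u⁻¹ = i.1
    rw [show u * (u * i.1 * u⁻¹) * u⁻¹ = (u * u) * i.1 * (u * u)⁻¹ by group,
      mul_self_of_orderTwo hu2, one_mul, inv_one, mul_one])
  have hone : Nat.card {i : α // f i = i} = 1 := by
    rw [Nat.card_eq_one_iff_exists]
    refine ⟨⟨⟨u, huz, rfl⟩, Subtype.ext (show u * u * u⁻¹ = u by group)⟩, ?_⟩
    rintro ⟨i, hi⟩
    refine Subtype.ext (Subtype.ext ?_)
    show i.1 = u
    by_contra hne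
    have hi2 := orderTwo_isConj hz i.2.1
    have hcm : Commute u i.1 := mul_inv_eq_iff_eq_mul.1 (congrArg Subtype.val hi)
    have h2 : orderOf (u * i.1) = 2 := by
      refine orderTwo_of_mul_self ?_ fun h => hne ?_
      · calc u * i.1 * (u * i.1) = u * (i.1 * u) * i.1 := by group
          _ = u * (u * i.1) * i.1 := by rw [hcm.eq]
          _ = (u * u) * (i.1 * i.1) := by group
          _ = 1 := by rw [mul_self_of_orderTwo hu2, mul_self_of_orderTwo hi2, one_mul]
      · rw [eq_inv_of_mul_eq_one_right h, inv_of_orderTwo hu2]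
    have h3 := uf_half hz hfix hpair huz i.2.1 huH (by rw [h2]; decide)
    rw [h2, show 2 / 2 = 1 from rfl, pow_one] at h3
    exact h3 (hmem i)
  have hk : Odd (Nat.card {t : G // IsConj z t ∧ t ∈ H}) := by
    rw [← uf_card_coset hz hfix hpair (QuotientGroup.mk u : G ⧸ H), Nat.odd_iff]
    have := natCard_mod_two_of_involutive f hff
    rw [hone] at this
    exact this
  -- both sets have the same fixed points under conjugation by `z`
  have hzz : ∀ i : G, z * (z * i * z⁻¹) * z⁻¹ = i := fun i => by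
    rw [show z * (z * i * z⁻¹) * z⁻¹ = (z * z) * i * (z * z)⁻¹ by group,
      mul_self_of_orderTwo hz, one_mul, inv_one, mul_one]
  let f₁ : {s : G // IsConj z s} → {s : G // IsConj z s} := fun i =>
    ⟨z * i.1 * z⁻¹, i.2.trans (isConj_iff.2 ⟨z, rfl⟩)⟩
  let f₂ : {t : G // IsConj z t ∧ t ∈ H} → {t : G // IsConj z t ∧ t ∈ H} := fun i =>
    ⟨z * i.1 * z⁻¹, i.2.1.trans (isConj_iff.2 ⟨z, rfl⟩),
      H.mul_mem (H.mul_mem (uf_mem hfix) i.2.2) (H.inv_mem (uf_mem hfix))⟩
  have e1 := natCard_mod_two_of_involutive f₁ fun i => Subtype.ext (hzz i.1)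
  have e2 := natCard_mod_two_of_involutive f₂ fun i => Subtype.ext (hzz i.1)
  have e : Nat.card {i // f₁ i = i} = Nat.card {i // f₂ i = i} := by
    refine Nat.card_congr ?_
    exact {
      toFun := fun x => ⟨⟨x.1.1, x.1.2, uf_commute_mem hfix
        (show Commute x.1.1 z from (mul_inv_eq_iff_eq_mul.1 (congrArg Subtype.val x.2)).symm)⟩,
        Subtype.ext (by exact (congrArg (fun q => q.1) x.2 :))⟩
      invFun := fun x => ⟨⟨x.1.1, x.1.2.1⟩, Subtype.ext (by exact (congrArg (fun q => q.1) x.2 :))⟩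
      left_inv := fun x => rfl
      right_inv := fun x => rfl }
  rw [Nat.odd_iff] at hk ⊢
  rw [e] at e1
  exact Eq.trans (e1.trans e2.symm) hk

end

end Cfsg.Lib.TwoFus
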